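import Groth.Agent.S6475
import Groth.Agent.S12672
import Groth.Agent.H23.Chern.Exist
import Groth.Agent.H23.Chern.TowerSmooth
import Groth.Agent.H23.FundCycle
import Groth.Agent.CycLib.LFT
import Groth.Agent.S1859

/-!
# The top self-intersection of the tautological bundle over a curve
-/

set_option autoImplicit false
set_option linter.style.haveILetI false
set_option linter.unusedSectionVars false
set_option backward.isDefEq.respectTransparency false
set_option backward.isDefEq.respectTransparency.types false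

universe u

open CategoryTheory CategoryTheory.Limits AlgebraicGeometry

noncomputable section

namespace Groth.Agent.H28.DegTaut

open Groth.Agent Groth.Agent.H23 Groth.Agent.H23.ProjBd

/-- The fundamental cycle of an integral scheme. -/
theorem subschemeFun_id_integral {W : Scheme.{u}} [IsIntegral W] {δ : W → ℤ} (hd : Cyc.IsDimFun W δ) {d : ℤ}
    (hgen : δ (genericPoint W) = d) (w : W) [Decidable (w = genericPoint W)] :
    Cyc.subschemeFun δ d (𝟙 W) w = if w = genericPoint W then 1 else 0 := by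
  rw [FundCycle.subschemeFun_id]
  by_cases hw : w = genericPoint W
  · subst hw
    rw [if_pos hgen, if_pos rfl]
    letI : Field (W.presheaf.stalk (genericPoint W)) := inferInstanceAs (Field W.functionField)
    haveI : IsSimpleModule (W.presheaf.stalk (genericPoint W)) (W.presheaf.stalk (genericPoint W)) := inferInstance
    rw [Module.length_eq_one]
    rfl
  · have h := (hd _ w ((genericPoint_spec W).specializes (Set.mem_univ w)) (Ne.symm hw)).1
    rw [if_neg (by omega), if_neg hw]

theorem deg_congr {k : Type u} [Field k] {X : Scheme.{u}} [X.Over (Spec (CommRingCat.of k))]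
    [IsProper (X ↘ Spec (CommRingCat.of k))] {δ : X → ℤ} (hX : Cyc.IsSetup X δ)
    (hδ : Cyc.DeltaCompat (X ↘ Spec (CommRingCat.of k)) δ (fun _ => 0)) {a b : AlgebraicCycle X ℤ}
    (h : Cyc.RatEquiv δ 0 a b) :
    ChowOps.deg (X ↘ Spec (CommRingCat.of k)) δ a = ChowOps.deg (X ↘ Spec (CommRingCat.of k)) δ b := by
  have hmap := CycLib.ratEquiv_map (X ↘ Spec (CommRingCat.of k)) hX (CycLib.isSetup_spec_field k) hδ h
  obtain ⟨ι, ξ, f, hξ, -, -, hs⟩ := hmap
  haveI : IsEmpty ι := ⟨fun i => absurd (hξ i) (by simp)⟩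
  have h' := hs (IsLocalRing.closedPoint k)
  rw [finsum_of_isEmpty, Function.locallyFinsuppWithin.coe_sub, Pi.sub_apply, sub_eq_zero] at h'
  exact h'

theorem deg_map {k : Type u} [Field k] {P X : Scheme.{u}} [X.Over (Spec (CommRingCat.of k))]
    (π : P ⟶ X) [IsProper π] [IsProper (X ↘ Spec (CommRingCat.of k))] {δP : P → ℤ} {δ : X → ℤ}
    (hPs : Cyc.IsSetup P δP) (hX : Cyc.IsSetup X δ) (hπ : Cyc.DeltaCompat π δP δ)
    (hδ : Cyc.DeltaCompat (X ↘ Spec (CommRingCat.of k)) δ (fun _ => 0)) (a : AlgebraicCycle P ℤ) :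
    ChowOps.deg (π ≫ (X ↘ Spec (CommRingCat.of k))) δP a =
      ChowOps.deg (X ↘ Spec (CommRingCat.of k)) δ (AlgebraicCycle.map π δP δ a) := by
  unfold ChowOps.deg
  rw [CycLib.map_map π (X ↘ Spec (CommRingCat.of k)) hπ hδ a]

variable {X P : Scheme.{u}} [IsIntegral X] [IsIntegral P] {p : P ⟶ X} {O1 : P.Modules} {n : ℕ}
  {δP : P → ℤ} {δ : X → ℤ}
  (hP : HasCoords p O1 n) [IsProper p] [IsLocallyNoetherian X] [IsLocallyNoetherian P]
  (hd : Cyc.IsDimFun P δP) (hδ : Cyc.DeltaCompat p δP δ)

include hP in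
theorem apply_genericPoint : p (genericPoint P) = genericPoint X := by
  haveI := hP.flat
  obtain ⟨η, hη⟩ := (hP.coords (genericPoint X)).exists_isEta (hP.mem_nhd _) (Nat.zero_le n)
  have h : p (genericPoint P) ⤳ p η := ((genericPoint_spec P).specializes (Set.mem_univ η)).map p.continuous
  rw [hη.apply_eq] at h
  exact (h.antisymm ((genericPoint_spec X).specializes (Set.mem_univ _))).eq

include hP hd hδ in
theorem delta_genericPoint : δP (genericPoint P) = δ (genericPoint X) + n := by
  have h := (hP.hasShift hd hδ).eq_of_fibMax (x := genericPoint P) fun w hw _ =>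
    (hw.antisymm ((genericPoint_spec P).specializes (Set.mem_univ w))).eq
  rw [h, apply_genericPoint hP]

include hP hd hδ in
/-- The pullback of the fundamental cycle is the fundamental cycle. -/
theorem pullFun_fundamental (hdX : Cyc.IsDimFun X δ) {d : ℤ} (hgen : δ (genericPoint X) = d) :
    Cyc.pullFun p δP δ n (Cyc.subschemeFun δ d (𝟙 X)) = Cyc.subschemeFun δP (d + n) (𝟙 P) := by
  classical
  have hg := delta_genericPoint hP hd hδ
  funext z
  rw [subschemeFun_id_integral hd (by omega), Cyc.pullFun, subschemeFun_id_integral hdX hgen]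
  by_cases hz : z = genericPoint P
  · subst hz
    rw [if_pos rfl, if_pos (by rw [apply_genericPoint hP]; exact hg), if_pos (apply_genericPoint hP), one_mul]
    letI : Field (P.presheaf.stalk (genericPoint P)) := inferInstanceAs (Field P.functionField)
    have hbot : Ideal.map (p.stalkMap (genericPoint P)).hom (IsLocalRing.maximalIdeal _) = ⊥ := by
      refine (Ideal.eq_bot_or_top _).resolve_right fun e => ?_
      exact (IsLocalRing.maximalIdeal.isMaximal (P.presheaf.stalk (genericPoint P))).ne_top (top_le_iff.1 (e ▸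
        Ideal.map_le_iff_le_comap.2 fun t ht hu => ht (isUnit_of_map_unit (p.stalkMap (genericPoint P)).hom t hu)))
    rw [(Submodule.quotEquivOfEqBot _ hbot).length_eq, Module.length_eq_one]
    rfl
  · rw [if_neg hz]
    have h := (hd _ z ((genericPoint_spec P).specializes (Set.mem_univ z)) (Ne.symm hz)).1
    split_ifs with h1 h2
    · rw [h2] at h1
      omega
    · simp
    · rfl

include hP hd hδ in
/-- The relation between the Chern class of degree one and the top power of the tautological class. -/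
theorem push_cl_top (hPs : Cyc.IsSetup P δP) (hX : Cyc.IsSetup X δ) (hnn : ∀ x, 0 ≤ δ x)
    {α : AlgebraicCycle X ℤ} {γ : Fin (n + 2) → AlgebraicCycle X ℤ}
    (hγ : Cyc.IsChernCap p δ δP O1 (n + 1) 1 α γ) :
    Cyc.RatEquiv δ 0 (AlgebraicCycle.map p δP δ (hP.cl hd hδ (n + 1) α)) (γ 1) := by
  have hrel := Chern.relSum_mem hP hd hδ 1 α γ hγ
  have hzero : ∀ j : Fin (n + 2), 2 ≤ (j : ℕ) → γ j = 0 := fun j hj => Function.locallyFinsuppWithin.ext fun x => by
    have := hnn x
    exact hγ.2.1 j x (by omega)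
  have hsum : Chern.relSum hP hd hδ γ =
      (-1 : ℤ) ^ (n + 1) • (hP.cl hd hδ (n + 1) α - hP.cl hd hδ n (γ 1)) := by
    rw [Chern.relSum, Fin.sum_univ_castSucc, Fin.sum_univ_castSucc, Finset.sum_eq_zero fun i _ => by
      rw [hzero (Fin.rev i.castSucc.castSucc) (by
        rw [Fin.val_rev, Fin.val_castSucc, Fin.val_castSucc]; have := i.2; omega), map_zero, smul_zero]]
    have e1 : Fin.rev (Fin.last n).castSucc = (1 : Fin (n + 2)) := Fin.ext (by simp [Fin.val_rev])
    rw [e1, Fin.rev_last, hγ.1, zero_add, smul_sub, Fin.val_castSucc, Fin.val_last, Fin.val_last, pow_succ,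
      mul_neg_one, neg_smul, neg_smul]
    abel
  rw [hsum] at hrel
  have hrel' : hP.cl hd hδ (n + 1) α - hP.cl hd hδ n (γ 1) ∈ ratZero hd ((1 : ℤ) - 1) := by
    have := (ratZero hd ((1 : ℤ) - 1)).zsmul_mem hrel ((-1 : ℤ) ^ (n + 1))
    rwa [smul_smul, ← mul_pow, neg_one_mul, neg_neg, one_pow, one_smul] at this
  have h1 : Cyc.RatEquiv δP 0 (hP.cl hd hδ (n + 1) α) (hP.cl hd hδ n (γ 1)) := hrel'
  have h2 := CycLib.ratEquiv_map p hPs hX hδ h1
  have h3 := hP.push_cl hd hδ hX.2.2 hPs hX (hγ.2.1 1) (m := n) le_rfl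
  rw [if_pos rfl] at h3
  have e : (1 : ℤ) - (((1 : Fin (n + 2)) : ℕ) : ℤ) + n - n = 0 := by simp
  rw [e] at h3
  have := (ratZero hX.2.2 0).add_mem (show _ ∈ ratZero hX.2.2 0 from h2) (show _ ∈ ratZero hX.2.2 0 from h3)
  rwa [sub_add_sub_cancel] at this

end Groth.Agent.H28.DegTaut
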